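import Mathlib
import Groth.Agent.RegLocal.Serre
import Groth.Agent.S7137
import Groth.Agent.FlatDepth.Basic

/-!
The Auslander–Buchsbaum formula.
-/

universe u

set_option backward.isDefEq.respectTransparency false

namespace Groth.Agent.ABLib

open IsLocalRing CategoryTheory TensorProduct RingTheory.Sequence
open scoped Pointwise

/-- `(R/I) ⊗ M ≅ M/IM` over `R/I`. -/
noncomputable def quotTensorEquiv {R : Type u} [CommRing R] (I : Ideal R) (M : Type u) [AddCommGroup M]
    [Module R M] : (R ⧸ I) ⊗[R] M ≃ₗ[R ⧸ I] M ⧸ (I • ⊤ : Submodule R M) :=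
  { TensorProduct.quotTensorEquivQuotSMul M I with
    map_smul' := fun c x => by
      obtain ⟨a, rfl⟩ := Ideal.Quotient.mk_surjective c
      show TensorProduct.quotTensorEquivQuotSMul M I (Ideal.Quotient.mk I a • x) =
        Ideal.Quotient.mk I a • TensorProduct.quotTensorEquivQuotSMul M I x
      rw [← Ideal.Quotient.algebraMap_eq, algebraMap_smul, map_smul]
      rfl }

theorem down {R : Type u} [CommRing R] [IsLocalRing R] [IsNoetherianRing R] {x : R} (hxR : IsSMulRegular R x)
    (M : Type u) [AddCommGroup M] [Module R M] [Module.Finite R M] (hxM : IsSMulRegular M x) (n : ℕ)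
    (h : HasProjectiveDimensionLT (ModuleCat.of R M) (n + 1)) :
    HasProjectiveDimensionLT (ModuleCat.of (R ⧸ Ideal.span {x}) (M ⧸ (Ideal.span {x} • ⊤ : Submodule R M))) (n + 1) :=
  haveI := RegLocal.hasProjectiveDimensionLT_down hxR n M hxM h
  hasProjectiveDimensionLT_of_iso (quotTensorEquiv (Ideal.span {x}) M).toModuleIso _

theorem exists_regular_both {R : Type u} [CommRing R] [IsLocalRing R] [IsNoetherianRing R] (M : Type u)
    [AddCommGroup M] [Module R M] [Module.Finite R M] [Nontrivial M] (hR : LocCoh.depth R R ≠ 0)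
    (hM : LocCoh.depth R M ≠ 0) : ∃ x ∈ maximalIdeal R, IsSMulRegular R x ∧ IsSMulRegular M x := by
  have h1 : CAlgBasics.SocleZero R R := CAlgBasics.one_le_depth_iff.1 (ENat.one_le_iff_ne_zero.2 hR)
  have h2 : CAlgBasics.SocleZero R M := CAlgBasics.one_le_depth_iff.1 (ENat.one_le_iff_ne_zero.2 hM)
  have h3 : CAlgBasics.SocleZero R (R × M) := fun y hy => Prod.ext
    (h1 y.1 fun a ha => congrArg Prod.fst (hy a ha)) (h2 y.2 fun a ha => congrArg Prod.snd (hy a ha))
  obtain ⟨x, hx, hreg⟩ := h3.exists_isSMulRegular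
  refine ⟨x, hx, fun a b hab => ?_, fun a b hab => ?_⟩
  · exact congrArg Prod.fst (hreg (a₁ := (a, 0)) (a₂ := (b, 0)) (Prod.ext hab rfl))
  · exact congrArg Prod.snd (hreg (a₁ := (0, a)) (a₂ := (0, b)) (Prod.ext rfl hab))

theorem depth_one_of_syzygy {R : Type u} [CommRing R] [IsLocalRing R] [IsNoetherianRing R] {m : ℕ}
    (K : Submodule R (Fin m → R)) [Nontrivial K] {x : R} (hx : x ∈ maximalIdeal R) (hreg : IsSMulRegular R x)
    (z : Fin m → R) (hz : z ∉ K) (hmz : ∀ a ∈ maximalIdeal R, a • z ∈ K) : LocCoh.depth R K = 1 := by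
  have hregK : IsSMulRegular K x := fun a b hab =>
    Subtype.ext (funext fun i => hreg (congrFun (congrArg Subtype.val hab) i))
  haveI := FlatDepth.nontrivial_quotSMulTop (M := K) hx
  have h0 : LocCoh.depth R (QuotSMulTop x K) = 0 := by
    refine FlatDepth.depth_eq_zero_iff.2 ⟨Submodule.Quotient.mk ⟨x • z, hmz x hx⟩, fun h => ?_, fun a ha => ?_⟩
    · rw [Submodule.Quotient.mk_eq_zero, Submodule.mem_smul_pointwise_iff_exists] at h
      obtain ⟨w, -, hw⟩ := h
      exact hz ((funext fun i => hreg (congrFun (congrArg Subtype.val hw) i) : w.1 = z) ▸ w.2)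
    · rw [← Submodule.Quotient.mk_smul, Submodule.Quotient.mk_eq_zero, Submodule.mem_smul_pointwise_iff_exists]
      exact ⟨⟨a • z, hmz a ha⟩, trivial, Subtype.ext (smul_comm x a z)⟩
  rw [← FlatDepth.depth_quotSMulTop (M := K) hx hregK, h0, zero_add]

theorem main : ∀ (r : ℕ) (R : Type u) [CommRing R] [IsLocalRing R] [IsNoetherianRing R],
    LocCoh.depth R R = r → ∀ (M : Type u) [AddCommGroup M] [Module R M] [Module.Finite R M] [Nontrivial M]
      (e : ℕ), projectiveDimension (ModuleCat.of R M) = (e : WithBot ℕ∞) →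
      (r : ℕ∞) = e + LocCoh.depth R M := by
  intro r
  induction r with
  | zero =>
    intro R _ _ _ hR M _ _ _ _ e he
    obtain ⟨s, hs, hsm⟩ := FlatDepth.depth_eq_zero_iff.1 (by rw [hR, Nat.cast_zero])
    have hlt : HasProjectiveDimensionLT (ModuleCat.of R M) (e + 1) :=
      (projectiveDimension_le_iff (ModuleCat.of R M) e).1 he.le
    haveI := RegLocal.free_of_depth_zero hs (fun a ha => hsm a ha) (e + 1) M hlt
    have he0 : e = 0 := by
      have := (projectiveDimension_le_iff (ModuleCat.of R M) 0).2 (RegLocal.hasProjectiveDimensionLT_of_free M 0)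
      rw [he] at this
      exact_mod_cast Nat.le_zero.1 (by exact_mod_cast this)
    let b := Module.Free.chooseBasis R M
    obtain ⟨j⟩ := b.index_nonempty
    have h0 : LocCoh.depth R M = 0 := FlatDepth.depth_eq_zero_iff.2 ⟨s • b j, fun h => hs (by
      simpa using congrArg (fun t => b.repr t j) h), fun a ha => by
      rw [smul_smul, show a * s = 0 from hsm a ha, zero_smul]⟩
    rw [h0, he0, Nat.cast_zero, add_zero]
  | succ r ih =>
    intro R _ _ _ hR
    have hR0 : LocCoh.depth R R ≠ 0 := by
      rw [hR]
      exact_mod_cast Nat.succ_ne_zero r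
    have pos : ∀ (M : Type u) [AddCommGroup M] [Module R M] [Module.Finite R M] [Nontrivial M] (e : ℕ),
        projectiveDimension (ModuleCat.of R M) = (e : WithBot ℕ∞) → LocCoh.depth R M ≠ 0 →
        ((r + 1 : ℕ) : ℕ∞) = e + LocCoh.depth R M := by
      intro M _ _ _ _ e he hM0
      obtain ⟨x, hx, hxR, hxM⟩ := exists_regular_both M hR0 hM0
      let I : Ideal R := Ideal.span {x}
      have hI : I ≤ maximalIdeal R := (Ideal.span_singleton_le_iff_mem _).2 hx
      haveI : Nontrivial (R ⧸ I) := Ideal.Quotient.nontrivial_iff.2 fun h =>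
        (maximalIdeal.isMaximal R).ne_top (top_le_iff.1 (h ▸ hI))
      haveI : IsLocalRing (R ⧸ I) := .of_surjective' _ Ideal.Quotient.mk_surjective
      let E := M ⧸ (I • ⊤ : Submodule R M)
      haveI : Nontrivial E := Submodule.Quotient.nontrivial_iff.2 fun h =>
        CAlgBasics.maximalIdeal_smul_top_ne_top (R := R) (M := M)
          (top_le_iff.1 (h.ge.trans (Submodule.smul_mono_left hI)))
      haveI : Module.Finite (R ⧸ I) E := Module.Finite.of_restrictScalars_finite R _ _
      have hsurj : Function.Surjective (algebraMap R (R ⧸ I)) := Ideal.Quotient.mk_surjective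
      let eM : QuotSMulTop x M ≃ₗ[R] E :=
        Submodule.quotEquivOfEq _ _ (Submodule.ideal_span_singleton_smul x ⊤).symm
      let eR : QuotSMulTop x R ≃ₗ[R] R ⧸ I :=
        Submodule.quotEquivOfEq _ _ (by rw [← Submodule.ideal_span_singleton_smul, smul_eq_mul, Ideal.mul_top])
      obtain ⟨d, hd⟩ := FlatDepth.exists_depth_eq (R := R ⧸ I) (M := E)
      have hdR : LocCoh.depth (R ⧸ I) (R ⧸ I) = r := by
        have h := FlatDepth.depth_quotSMulTop (M := R) hx hxR
        rw [FlatDepth.depth_congr eR, ← FlatDepth.depth_of_surjective hsurj, hR] at h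
        obtain ⟨k, hk⟩ := FlatDepth.exists_depth_eq (R := R ⧸ I) (M := R ⧸ I)
        rw [hk] at h ⊢
        norm_cast at h ⊢
        omega
      have hdM : ((d + 1 : ℕ) : ℕ∞) = LocCoh.depth R M := by
        rw [← FlatDepth.depth_quotSMulTop (M := M) hx hxM, FlatDepth.depth_congr eM,
          ← FlatDepth.depth_of_surjective hsurj, hd, Nat.cast_add, Nat.cast_one]
      have hdown : projectiveDimension (ModuleCat.of (R ⧸ I) E) ≤ (e : WithBot ℕ∞) :=
        (projectiveDimension_le_iff _ e).2 (down hxR M hxM e ((projectiveDimension_le_iff _ e).1 he.le))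
      have hRI : projectiveDimension (ModuleCat.of R (R ⧸ I)) = ((1 : ℕ) : WithBot ℕ∞) := by
        have h := ModuleCat.projectiveDimension_quotSMulTop_eq_succ_of_isSMulRegular (ModuleCat.of R R) x hxR hx
        haveI : Projective (ModuleCat.of R R) := RegLocal.projective_of_free' R
        rw [ModuleCat.projectiveDimension_eq_zero_of_projective (ModuleCat.of R R), zero_add] at h
        rw [← projectiveDimension_eq_of_iso eR.toModuleIso, Nat.cast_one]
        exact h
      have hE : projectiveDimension (ModuleCat.of R E) = ((e + 1 : ℕ) : WithBot ℕ∞) := by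
        rw [← projectiveDimension_eq_of_iso eM.toModuleIso,
          ModuleCat.projectiveDimension_quotSMulTop_eq_succ_of_isSMulRegular (ModuleCat.of R M) x hxM hx, he]
        norm_cast
      have h7 := (S7137.result R I E (by
          rw [hRI]
          exact fun h => ENat.coe_ne_top 1 (WithBot.coe_inj.1 h))
        (fun h => by
          rw [h, top_le_iff] at hdown
          exact ENat.coe_ne_top e (WithBot.coe_inj.1 hdown))).2
      rw [hE, hRI] at h7
      obtain ⟨e', he'⟩ : ∃ e' : ℕ, projectiveDimension (ModuleCat.of (R ⧸ I) E) = (e' : WithBot ℕ∞) := by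
        cases h : projectiveDimension (ModuleCat.of (R ⧸ I) E) using WithBot.recBotCoe with
        | bot =>
          rw [h, WithBot.add_bot] at h7
          exact absurd h7 WithBot.coe_ne_bot
        | coe a =>
          rw [h] at hdown
          obtain ⟨n, rfl⟩ := ENat.ne_top_iff_exists.1 (fun ha : a = ⊤ => by
            subst ha
            exact ENat.coe_ne_top e (top_le_iff.1 (WithBot.coe_le_coe.1 hdown)))
          exact ⟨n, rfl⟩
      have hih := ih (R ⧸ I) hdR E e' he'
      rw [hd] at hih
      rw [he'] at h7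
      rw [← hdM]
      norm_cast at h7 hih ⊢
      omega
    intro M _ _ _ _ e he
    rcases eq_or_ne (LocCoh.depth R M) 0 with hM0 | hM0
    swap
    · exact pos M e he hM0
    have hlt : HasProjectiveDimensionLT (ModuleCat.of R M) (e + 1) := (projectiveDimension_le_iff _ e).1 he.le
    obtain ⟨y, hy, hym⟩ := FlatDepth.depth_eq_zero_iff.1 hM0
    cases e with
    | zero =>
      exfalso
      haveI := RegLocal.free_of_projDimLT_one M hlt
      let b := Module.Free.chooseBasis R M
      obtain ⟨j, hj⟩ : ∃ j, b.repr y j ≠ 0 := by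
        by_contra hc
        push Not at hc
        exact hy (b.repr.map_eq_zero_iff.1 (Finsupp.ext hc))
      refine hj ((CAlgBasics.one_le_depth_iff.1 (ENat.one_le_iff_ne_zero.2 hR0)) _ fun a ha => ?_)
      simpa using congrArg (fun t => b.repr t j) (hym a ha)
    | succ e =>
      obtain ⟨k, f, hf⟩ := Module.Finite.exists_fin' R M
      let K := LinearMap.ker f
      haveI : Nontrivial K := by
        by_contra h
        have hbot : LinearMap.ker f = ⊥ := Submodule.subsingleton_iff_eq_bot.1 (not_nontrivial_iff_subsingleton.1 h)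
        haveI : Module.Free R M := Module.Free.of_equiv (LinearEquiv.ofBijective f ⟨LinearMap.ker_eq_bot.1 hbot, hf⟩)
        have := (projectiveDimension_le_iff (ModuleCat.of R M) 0).2 (RegLocal.hasProjectiveDimensionLT_of_free M 0)
        rw [he] at this
        norm_cast at this
      obtain ⟨z, hz⟩ := hf y
      obtain ⟨x, hx, hxR⟩ := FlatDepth.exists_regular_of_depth (R := R) (M := R) hR
      have hK1 : LocCoh.depth R K = 1 := depth_one_of_syzygy K hx hxR z
        (fun h => hy (hz ▸ LinearMap.mem_ker.1 h))
        (fun a ha => LinearMap.mem_ker.2 (by rw [map_smul, hz, hym a ha]))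
      have hKe : projectiveDimension (ModuleCat.of R K) = (e : WithBot ℕ∞) := by
        refine le_antisymm ((projectiveDimension_le_iff _ e).2 ((RegLocal.syzygy_iff f hf e).1 hlt)) ?_
        rw [projectiveDimension_ge_iff]
        intro h
        have h' : HasProjectiveDimensionLT (ModuleCat.of R M) (e + 1) := by
          cases e with
          | zero =>
            exact absurd ((ModuleCat.isZero_iff_subsingleton (M := ModuleCat.of R K)).1
              ((hasProjectiveDimensionLT_zero_iff_isZero _).1 h)) (not_subsingleton K)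
          | succ e => exact (RegLocal.syzygy_iff f hf e).2 h
        exact ((projectiveDimension_ge_iff (ModuleCat.of R M) (e + 1)).1 he.ge) h'
      have := pos K e hKe (by rw [hK1]; exact one_ne_zero)
      rw [hK1] at this
      rw [hM0, add_zero]
      exact_mod_cast this

end Groth.Agent.ABLib
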